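import Cfsg.Agent.Lib.H64.TCHSC.Data
import Cfsg.Agent.Lib.H35.TCIdx
set_option autoImplicit false
set_option maxRecDepth 100000
set_option linter.all false
namespace H64.TCHSC
open H35.TC
/-- letters -/
inductive Lt | c | ci | b | bi | a | ai
  deriving DecidableEq
/-- inverse letter -/
def inv : Lt → Lt
  | .c => .ci
  | .ci => .c
  | .b => .bi
  | .bi => .b
  | .a => .ai
  | .ai => .a
/-- table functions -/
noncomputable def T : Lt → ℕ → ℕ
  | .c => T_c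
  | .ci => T_ci
  | .b => T_b
  | .bi => T_bi
  | .a => T_a
  | .ai => T_ai
/-- decoding of letter codes -/
def lt : ℕ → Lt
  | 0 => .c
  | 1 => .ci
  | 2 => .b
  | 3 => .bi
  | 4 => .a
  | _ => .ai
/-- Coxeter matrix (0: no relation) -/
def mm : Lt → Lt → ℕ
  | _, _ => 0
/-- extra relators `w ^ n` -/
def extra : List (List Lt × ℕ) := [
  ([.c, .a, .ci, .ai], 1),
  ([.a], 5),
  ([.a, .bi, .ai, .b, .c, .c, .c], 1),
  ([.c, .ci], 1),
  ([.ci, .c], 1),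
  ([.b, .bi], 1),
  ([.bi, .b], 1),
  ([.a, .ai], 1),
  ([.ai, .a], 1)]
/-- relators -/
def rels : List (List Lt) := mkRels [] mm extra
/-- subgroup words -/
def subs : List (List Lt) := [
  [.c],
  [.b]]
noncomputable def disp_c (j u : ℕ) : Bool :=
  Bool.rec (motive := fun _ => Bool) (lF1 T_ci M (Nat.sub (T_c u) (Nat.mod (T_c u) M)) (Nat.mod (T_c u) M) u) (Bool.rec (motive := fun _ => Bool) (lH [] [] M (Nat.sub (T_c u) (Nat.mod (T_c u) M)) (Nat.mod (T_c u) M) u) (lF3 T_a T_ci T_ai M (Nat.sub (T_c u) (Nat.mod (T_c u) M)) (Nat.mod (T_c u) M) u) (Nat.ble (nat_lit 2) j)) (Nat.ble (nat_lit 1) j)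
noncomputable def chk_c (j u : ℕ) : Bool :=
  Bool.rec (motive := fun _ => Bool) (disp_c j u) (Nat.ble (Nat.succ (MG u)) A) (Nat.ble A (T_c u))
noncomputable def disp_ci (j u : ℕ) : Bool :=
  Bool.rec (motive := fun _ => Bool) (lF1 T_c M (Nat.sub (T_ci u) (Nat.mod (T_ci u) M)) (Nat.mod (T_ci u) M) u) (Bool.rec (motive := fun _ => Bool) (lF3 T_ai T_c T_a M (Nat.sub (T_ci u) (Nat.mod (T_ci u) M)) (Nat.mod (T_ci u) M) u) (lF3 T_a T_c T_ai M (Nat.sub (T_ci u) (Nat.mod (T_ci u) M)) (Nat.mod (T_ci u) M) u) (Nat.ble (nat_lit 2) j)) (Nat.ble (nat_lit 1) j)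
noncomputable def chk_ci (j u : ℕ) : Bool :=
  Bool.rec (motive := fun _ => Bool) (disp_ci j u) (Nat.ble (Nat.succ (MG u)) A) (Nat.ble A (T_ci u))
noncomputable def disp_b (j u : ℕ) : Bool :=
  Bool.rec (motive := fun _ => Bool) (lF1 T_bi M (Nat.sub (T_b u) (Nat.mod (T_b u) M)) (Nat.mod (T_b u) M) u) (Bool.rec (motive := fun _ => Bool) (lH [] [] M (Nat.sub (T_b u) (Nat.mod (T_b u) M)) (Nat.mod (T_b u) M) u) (lF [T_c, T_c, T_c, T_a, T_bi, T_ai] M (Nat.sub (T_b u) (Nat.mod (T_b u) M)) (Nat.mod (T_b u) M) u) (Nat.ble (nat_lit 2) j)) (Nat.ble (nat_lit 1) j)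
noncomputable def chk_b (j u : ℕ) : Bool :=
  Bool.rec (motive := fun _ => Bool) (disp_b j u) (Nat.ble (Nat.succ (MG u)) A) (Nat.ble A (T_b u))
noncomputable def disp_bi (j u : ℕ) : Bool :=
  Bool.rec (motive := fun _ => Bool) (lF1 T_b M (Nat.sub (T_bi u) (Nat.mod (T_bi u) M)) (Nat.mod (T_bi u) M) u) (Bool.rec (motive := fun _ => Bool) (lF [T_ai, T_b, T_c, T_c, T_c, T_a] M (Nat.sub (T_bi u) (Nat.mod (T_bi u) M)) (Nat.mod (T_bi u) M) u) (lF [T_a, T_b, T_ai, T_ci, T_ci, T_ci] M (Nat.sub (T_bi u) (Nat.mod (T_bi u) M)) (Nat.mod (T_bi u) M) u) (Nat.ble (nat_lit 2) j)) (Nat.ble (nat_lit 1) j)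
noncomputable def chk_bi (j u : ℕ) : Bool :=
  Bool.rec (motive := fun _ => Bool) (disp_bi j u) (Nat.ble (Nat.succ (MG u)) A) (Nat.ble A (T_bi u))
noncomputable def disp_a (j u : ℕ) : Bool :=
  Bool.rec (motive := fun _ => Bool) (lDef P (nat_lit 4) (Nat.mod (T_a u) M) u) (Bool.rec (motive := fun _ => Bool) (lDef P (nat_lit 5) u (Nat.mod (T_a u) M)) (lF [T_a, T_a, T_a, T_a] M (Nat.sub (T_a u) (Nat.mod (T_a u) M)) (Nat.mod (T_a u) M) u) (Nat.ble (nat_lit 2) j)) (Nat.ble (nat_lit 1) j)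
noncomputable def chk_a (j u : ℕ) : Bool :=
  Bool.rec (motive := fun _ => Bool) (disp_a j u) (Nat.ble (Nat.succ (MG u)) A) (Nat.ble A (T_a u))
noncomputable def disp_ai (j u : ℕ) : Bool :=
  Bool.rec (motive := fun _ => Bool) (lDef P (nat_lit 5) (Nat.mod (T_ai u) M) u) (Bool.rec (motive := fun _ => Bool) (lDef P (nat_lit 4) u (Nat.mod (T_ai u) M)) (lF1 T_a M (Nat.sub (T_ai u) (Nat.mod (T_ai u) M)) (Nat.mod (T_ai u) M) u) (Nat.ble (nat_lit 2) j)) (Nat.ble (nat_lit 1) j)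
noncomputable def chk_ai (j u : ℕ) : Bool :=
  Bool.rec (motive := fun _ => Bool) (disp_ai j u) (Nat.ble (Nat.succ (MG u)) A) (Nat.ble A (T_ai u))
noncomputable def chkM (u : ℕ) : Bool := Nat.ble A (MG u)
noncomputable def chkN (u : ℕ) : Bool :=
  band (chk_c (Nat.land (Nat.shiftRight (RS u) (nat_lit 0)) (nat_lit 15)) u) (band (chk_ci (Nat.land (Nat.shiftRight (RS u) (nat_lit 4)) (nat_lit 15)) u) (band (chk_b (Nat.land (Nat.shiftRight (RS u) (nat_lit 8)) (nat_lit 15)) u) (band (chk_bi (Nat.land (Nat.shiftRight (RS u) (nat_lit 12)) (nat_lit 15)) u) (band (chk_a (Nat.land (Nat.shiftRight (RS u) (nat_lit 16)) (nat_lit 15)) u) (band (chk_ai (Nat.land (Nat.shiftRight (RS u) (nat_lit 20)) (nat_lit 15)) u) (chkM u))))))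
noncomputable def chkP (u : ℕ) : Bool := Bool.rec (motive := fun _ => Bool) (chkN u) true (Nat.ble M u)
noncomputable def liveP (u : ℕ) : Bool := Bool.rec (motive := fun _ => Bool) (Nat.ble A (MG u)) false (Nat.ble M u)
end H64.TCHSC
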